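import Cfsg.Agent.Lib.H28.G23M.Cert.StepsA
import Cfsg.Agent.Lib.H28.G23M.Cert.StepsB
import Cfsg.Agent.Lib.H28.G23M.Cert.StepsC
import Cfsg.Agent.Lib.H28.G23M.Cert.StepsD
import Cfsg.Agent.Lib.H28.G23M.Cert.StepsE
import Cfsg.Agent.Lib.H28.G23M.Cert.StepsF
import Cfsg.Agent.Lib.H28.G23M.Cert.StepsG
import Cfsg.Agent.Lib.H28.G23M.Cert.StepsH
import Cfsg.Agent.Lib.H28.G23M.Cert.StepsI

set_option autoImplicit false
set_option maxRecDepth 100000

/-! # Running the certificate: the path words fix the base point (generated) -/

namespace Cfsg.Agent.Lib.H28.G23M.Cert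

open Cfsg.Agent.Lib.H17.CosetCert Cfsg.Agent.Lib.H28.CosetCertD Cfsg.Agent.Lib.H28.G23M

variable {G Q : Type*} [Group G] [MulAction G Q] (γ : ℕ → G) (q0 : Q)

theorem run (hOK : WordsOK γ q0 words) : Inv F 24 γ q0 86111 5871 := by
  have h0 := inv_zero F 24 γ q0
  have h1 := checkSteps_soundD F 24 16777216 γ q0 words hOK steps0 0 1 568 h0 chk0
  rw [len0] at h1
  have h2 := checkSteps_soundD F 24 16777216 γ q0 words hOK steps1 2000 568 1159 h1 chk1
  rw [len1] at h2
  have h3 := checkSteps_soundD F 24 16777216 γ q0 words hOK steps2 4000 1159 1751 h2 chk2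
  rw [len2] at h3
  have h4 := checkSteps_soundD F 24 16777216 γ q0 words hOK steps3 6000 1751 2293 h3 chk3
  rw [len3] at h4
  have h5 := checkSteps_soundD F 24 16777216 γ q0 words hOK steps4 8000 2293 2866 h4 chk4
  rw [len4] at h5
  have h6 := checkSteps_soundD F 24 16777216 γ q0 words hOK steps5 10000 2866 3086 h5 chk5
  rw [len5] at h6
  have h7 := checkSteps_soundD F 24 16777216 γ q0 words hOK steps6 12000 3086 3270 h6 chk6
  rw [len6] at h7
  have h8 := checkSteps_soundD F 24 16777216 γ q0 words hOK steps7 14000 3270 3402 h7 chk7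
  rw [len7] at h8
  have h9 := checkSteps_soundD F 24 16777216 γ q0 words hOK steps8 16000 3402 3840 h8 chk8
  rw [len8] at h9
  have h10 := checkSteps_soundD F 24 16777216 γ q0 words hOK steps9 18000 3840 4285 h9 chk9
  rw [len9] at h10
  have h11 := checkSteps_soundD F 24 16777216 γ q0 words hOK steps10 20000 4285 4285 h10 chk10
  rw [len10] at h11
  have h12 := checkSteps_soundD F 24 16777216 γ q0 words hOK steps11 22000 4285 4376 h11 chk11
  rw [len11] at h12
  have h13 := checkSteps_soundD F 24 16777216 γ q0 words hOK steps12 24000 4376 4376 h12 chk12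
  rw [len12] at h13
  have h14 := checkSteps_soundD F 24 16777216 γ q0 words hOK steps13 26000 4376 4376 h13 chk13
  rw [len13] at h14
  have h15 := checkSteps_soundD F 24 16777216 γ q0 words hOK steps14 28000 4376 4625 h14 chk14
  rw [len14] at h15
  have h16 := checkSteps_soundD F 24 16777216 γ q0 words hOK steps15 30000 4625 4985 h15 chk15
  rw [len15] at h16
  have h17 := checkSteps_soundD F 24 16777216 γ q0 words hOK steps16 32000 4985 5203 h16 chk16
  rw [len16] at h17
  have h18 := checkSteps_soundD F 24 16777216 γ q0 words hOK steps17 34000 5203 5203 h17 chk17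
  rw [len17] at h18
  have h19 := checkSteps_soundD F 24 16777216 γ q0 words hOK steps18 36000 5203 5203 h18 chk18
  rw [len18] at h19
  have h20 := checkSteps_soundD F 24 16777216 γ q0 words hOK steps19 38000 5203 5203 h19 chk19
  rw [len19] at h20
  have h21 := checkSteps_soundD F 24 16777216 γ q0 words hOK steps20 40000 5203 5203 h20 chk20
  rw [len20] at h21
  have h22 := checkSteps_soundD F 24 16777216 γ q0 words hOK steps21 42000 5203 5203 h21 chk21
  rw [len21] at h22
  have h23 := checkSteps_soundD F 24 16777216 γ q0 words hOK steps22 44000 5203 5203 h22 chk22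
  rw [len22] at h23
  have h24 := checkSteps_soundD F 24 16777216 γ q0 words hOK steps23 46000 5203 5203 h23 chk23
  rw [len23] at h24
  have h25 := checkSteps_soundD F 24 16777216 γ q0 words hOK steps24 48000 5203 5203 h24 chk24
  rw [len24] at h25
  have h26 := checkSteps_soundD F 24 16777216 γ q0 words hOK steps25 50000 5203 5203 h25 chk25
  rw [len25] at h26
  have h27 := checkSteps_soundD F 24 16777216 γ q0 words hOK steps26 52000 5203 5203 h26 chk26
  rw [len26] at h27
  have h28 := checkSteps_soundD F 24 16777216 γ q0 words hOK steps27 54000 5203 5203 h27 chk27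
  rw [len27] at h28
  have h29 := checkSteps_soundD F 24 16777216 γ q0 words hOK steps28 56000 5203 5203 h28 chk28
  rw [len28] at h29
  have h30 := checkSteps_soundD F 24 16777216 γ q0 words hOK steps29 58000 5203 5265 h29 chk29
  rw [len29] at h30
  have h31 := checkSteps_soundD F 24 16777216 γ q0 words hOK steps30 60000 5265 5341 h30 chk30
  rw [len30] at h31
  have h32 := checkSteps_soundD F 24 16777216 γ q0 words hOK steps31 62000 5341 5407 h31 chk31
  rw [len31] at h32
  have h33 := checkSteps_soundD F 24 16777216 γ q0 words hOK steps32 64000 5407 5468 h32 chk32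
  rw [len32] at h33
  have h34 := checkSteps_soundD F 24 16777216 γ q0 words hOK steps33 66000 5468 5530 h33 chk33
  rw [len33] at h34
  have h35 := checkSteps_soundD F 24 16777216 γ q0 words hOK steps34 68000 5530 5588 h34 chk34
  rw [len34] at h35
  have h36 := checkSteps_soundD F 24 16777216 γ q0 words hOK steps35 70000 5588 5645 h35 chk35
  rw [len35] at h36
  have h37 := checkSteps_soundD F 24 16777216 γ q0 words hOK steps36 72000 5645 5700 h36 chk36
  rw [len36] at h37
  have h38 := checkSteps_soundD F 24 16777216 γ q0 words hOK steps37 74000 5700 5750 h37 chk37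
  rw [len37] at h38
  have h39 := checkSteps_soundD F 24 16777216 γ q0 words hOK steps38 76000 5750 5797 h38 chk38
  rw [len38] at h39
  have h40 := checkSteps_soundD F 24 16777216 γ q0 words hOK steps39 78000 5797 5844 h39 chk39
  rw [len39] at h40
  have h41 := checkSteps_soundD F 24 16777216 γ q0 words hOK steps40 80000 5844 5871 h40 chk40
  rw [len40] at h41
  have h42 := checkSteps_soundD F 24 16777216 γ q0 words hOK steps41 82000 5871 5871 h41 chk41
  rw [len41] at h42
  have h43 := checkSteps_soundD F 24 16777216 γ q0 words hOK steps42 84000 5871 5871 h42 chk42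
  rw [len42] at h43
  have h44 := checkSteps_soundD F 24 16777216 γ q0 words hOK steps43 86000 5871 5871 h43 chk43
  rw [len43] at h44
  exact h44

end Cfsg.Agent.Lib.H28.G23M.Cert
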